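import Mathlib.RingTheory.MvPolynomial.Homogeneous
import Mathlib.LinearAlgebra.Dual.Lemmas
import Mathlib.FieldTheory.IsAlgClosed.Basic
import Mathlib.LinearAlgebra.FiniteDimensional.Lemmas
import Mathlib.LinearAlgebra.Dimension.Finite

/-!
# Trisecant lines of a rational quintic
-/

universe u

open MvPolynomial

noncomputable section

namespace Groth.Agent.Trisec28

variable {K : Type u} [Field K]

local notation "H" => MvPolynomial.homogeneousSubmodule (Fin 2) K

/-- The monomials of degree `n` in two variables. -/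
def idxEquiv (n : ℕ) : Fin (n + 1) ≃ {m : Fin 2 →₀ ℕ | m.degree = n} where
  toFun i := ⟨Finsupp.single 0 (i : ℕ) + Finsupp.single 1 (n - (i : ℕ)), by
    simp [Finsupp.degree_eq_sum, Fin.sum_univ_two, Finsupp.single_apply]; omega⟩
  invFun m := ⟨m.1 0, by
    have := m.2
    simp only [Set.mem_ofPred_eq, Finsupp.degree_eq_sum, Fin.sum_univ_two] at this
    omega⟩
  left_inv i := by simp
  right_inv m := by
    have h := m.2
    simp only [Set.mem_ofPred_eq, Finsupp.degree_eq_sum, Fin.sum_univ_two] at h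
    ext j
    fin_cases j <;> simp <;> omega

/-- The basis of the binary forms of degree `n`. -/
def basisH (n : ℕ) : Module.Basis (Fin (n + 1)) K (H n) :=
  ((MvPolynomial.basisRestrictSupport K _).map (LinearEquiv.ofEq _ _ (by
    rw [homogeneousSubmodule_eq_finsupp_supported]; rfl))).reindex (idxEquiv n).symm

instance finite_H (n : ℕ) : Module.Finite K (H n) := Module.Finite.of_basis (basisH n)

lemma finrank_H (n : ℕ) : Module.finrank K (H n) = n + 1 := by
  rw [Module.finrank_eq_card_basis (basisH n), Fintype.card_fin]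

lemma finrank_mulLeft {g : MvPolynomial (Fin 2) K} (hg : g ≠ 0) (n : ℕ) :
    Module.finrank K ((H n).map (LinearMap.mulLeft K g)) = n + 1 := by
  rw [← finrank_H (K := K) n]
  exact (Submodule.equivMapOfInjective _ (mul_right_injective₀ hg) _).finrank_eq.symm

lemma eq_sum_four {g : MvPolynomial (Fin 2) K} (hg : g ∈ H 3) :
    g = ∑ i : Fin 4, C (coeff (idxEquiv 3 i).1 g) * X 0 ^ (i : ℕ) * X 1 ^ (3 - (i : ℕ)) := by
  refine MvPolynomial.ext _ _ fun m => ?_
  have e : ∀ i : Fin 4, C (coeff (idxEquiv 3 i).1 g) * X 0 ^ (i : ℕ) * X 1 ^ (3 - (i : ℕ)) =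
      monomial (idxEquiv 3 i).1 (coeff (idxEquiv 3 i).1 g) := fun i => by
    rw [X_pow_eq_monomial, X_pow_eq_monomial, C_mul_monomial, monomial_mul, mul_one, mul_one]
    rfl
  simp only [e, coeff_sum, coeff_monomial]
  by_cases hm : m.degree = 3
  · rw [Finset.sum_eq_single ((idxEquiv 3).symm ⟨m, hm⟩)]
    · rw [Equiv.apply_symm_apply, if_pos rfl]
    · intro i _ hi
      rw [if_neg fun h => hi (by simp [← h])]
    · simp
  · rw [(show g.IsHomogeneous 3 from hg).coeff_eq_zero hm, Finset.sum_eq_zero]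
    intro i _
    rw [if_neg fun h => hm (by rw [← h]; exact (idxEquiv 3 i).2)]

lemma X_mem_one (i : Fin 2) : (X i : MvPolynomial (Fin 2) K) ∈ H 1 := isHomogeneous_X K i

lemma exists_factor [IsAlgClosed K] {g : MvPolynomial (Fin 2) K} (hg : g ∈ H 3) (hg0 : g ≠ 0) :
    ∃ e ∈ H 2, e ≠ 0 ∧ ∃ l ∈ H 1, g = e * l := by
  suffices h : ∃ e ∈ H 2, ∃ l ∈ H 1, g = e * l by
    obtain ⟨e, he, l, hl, h⟩ := h
    exact ⟨e, he, fun h0 => hg0 (by rw [h, h0, zero_mul]), l, hl, h⟩
  obtain ⟨c, hc⟩ : ∃ c : Fin 4 → K, g = C (c 0) * X 1 ^ 3 + C (c 1) * X 0 * X 1 ^ 2 + C (c 2) * X 0 ^ 2 * X 1 +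
      C (c 3) * X 0 ^ 3 := by
    refine ⟨fun i => coeff (idxEquiv 3 i).1 g, (eq_sum_four hg).trans ?_⟩
    simp [Fin.sum_univ_four]
  have hX0 := isHomogeneous_X K (0 : Fin 2)
  have hX1 := isHomogeneous_X K (1 : Fin 2)
  have h00 : (X 0 ^ 2 : MvPolynomial (Fin 2) K).IsHomogeneous 2 := hX0.pow 2
  have h11 : (X 1 ^ 2 : MvPolynomial (Fin 2) K).IsHomogeneous 2 := hX1.pow 2
  have h01 : (X 0 * X 1 : MvPolynomial (Fin 2) K).IsHomogeneous 2 := hX0.mul hX1
  by_cases h3 : c 3 = 0
  · exact ⟨C (c 0) * X 1 ^ 2 + C (c 1) * (X 0 * X 1) + C (c 2) * X 0 ^ 2,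
      ((h11.C_mul _).add (h01.C_mul _)).add (h00.C_mul _), X 1, hX1, by rw [hc, h3, map_zero]; ring⟩
  · obtain ⟨r, hr⟩ := IsAlgClosed.exists_root (Polynomial.C (c 3) * Polynomial.X ^ 3 +
      Polynomial.C (c 2) * Polynomial.X ^ 2 + Polynomial.C (c 1) * Polynomial.X + Polynomial.C (c 0))
      (by rw [Polynomial.degree_cubic h3]; decide)
    simp only [Polynomial.IsRoot.def, Polynomial.eval_add, Polynomial.eval_mul, Polynomial.eval_C,
      Polynomial.eval_pow, Polynomial.eval_X] at hr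
    refine ⟨C (c 3) * X 0 ^ 2 + C (c 2 + r * c 3) * (X 0 * X 1) + C (c 1 + r * (c 2 + r * c 3)) * X 1 ^ 2,
      ((h00.C_mul _).add (h01.C_mul _)).add (h11.C_mul _), X 0 - C r * X 1, hX0.sub (hX1.C_mul _), ?_⟩
    have h0 : c 0 = -r * (c 1 + r * (c 2 + r * c 3)) := by linear_combination hr
    rw [hc, h0]
    simp only [map_add, map_mul, map_neg]
    ring

theorem main [IsAlgClosed K] (V : Submodule K (MvPolynomial (Fin 2) K))
    (hV : V ≤ H 5) (hdim : Module.finrank K ↥V = 4)
    (hsep : ∀ e ∈ H 2, e ≠ 0 → ∀ F ∈ H 5, ∃ v ∈ V, ∃ h ∈ H 3, F = v + e * h)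
    (F : Finset (MvPolynomial (Fin 2) K)) :
    ∃ g ∈ H 3, g ≠ 0 ∧ 2 ≤ Module.finrank K ↥(V ⊓ (H 2).map (LinearMap.mulLeft K g)) ∧
      ∀ g' ∈ F, ∀ c : K, g ≠ c • g' := by
  classical
  haveI : FiniteDimensional K V := Submodule.finiteDimensional_of_le hV
  -- the annihilator of `V` in degree five
  let V' : Submodule K (H 5) := Submodule.comap (H 5).subtype V
  have hV' : Module.finrank K V' = 4 := by rw [(Submodule.comapSubtypeEquivOfLe hV).finrank_eq, hdim]
  have hA : Module.finrank K V'.dualAnnihilator = 2 := by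
    have := Subspace.finrank_add_finrank_dualAnnihilator_eq (W := V')
    rw [hV', finrank_H] at this
    omega
  haveI : Module.Free K V'.dualAnnihilator := Module.Free.of_divisionRing K ↥V'.dualAnnihilator
  let b := Module.finBasisOfFinrankEq K V'.dualAnnihilator hA
  let ψ : K → Module.Dual K (H 5) := fun a => (b 0 : Module.Dual K (H 5)) + a • (b 1 : Module.Dual K (H 5))
  have hψ : ∀ a, ψ a ≠ 0 := fun a h => by
    have h2 : b 0 + a • b 1 = 0 := Subtype.ext h
    have := congrArg (fun x => b.repr x 0) h2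
    simp at this
  -- a cubic for each functional
  have hgex : ∀ a : K, ∃ g ∈ H 3, g ≠ 0 ∧ ∀ q ∈ H 2, ∀ w : H 5, (w : MvPolynomial (Fin 2) K) = g * q → ψ a w = 0 := by
    intro a
    let mu : H 3 →ₗ[K] Module.Dual K (H 2) :=
      LinearMap.mk₂ K (fun (g : H 3) (q : H 2) => ψ a ⟨g.1 * q.1, IsHomogeneous.mul g.2 q.2⟩)
        (fun g g' q => by rw [← map_add]; congr 1; exact Subtype.ext (add_mul _ _ _))
        (fun c g q => by rw [← map_smul]; congr 1; exact Subtype.ext (smul_mul_assoc _ _ _))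
        (fun g q q' => by rw [← map_add]; congr 1; exact Subtype.ext (mul_add _ _ _))
        (fun c g q => by rw [← map_smul]; congr 1; exact Subtype.ext (mul_smul_comm _ _ _))
    have hker : LinearMap.ker mu ≠ ⊥ := LinearMap.ker_ne_bot_of_finrank_lt (by
      rw [Subspace.dual_finrank_eq, finrank_H, finrank_H]; omega)
    obtain ⟨g, hg, hg0⟩ := Submodule.exists_mem_ne_zero_of_ne_bot hker
    refine ⟨g.1, g.2, fun h => hg0 (Subtype.ext h), fun q hq w hw => ?_⟩
    have := LinearMap.congr_fun (LinearMap.mem_ker.1 hg) ⟨q, hq⟩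
    simp only [mu, LinearMap.mk₂_apply, LinearMap.zero_apply] at this
    rw [← this]
    congr 1
    exact Subtype.ext hw
  choose g hg hg0 hgψ using hgex
  have hrank : ∀ a, 2 ≤ Module.finrank K ↥(V ⊓ (H 2).map (LinearMap.mulLeft K (g a))) := by
    intro a
    set W := (H 2).map (LinearMap.mulLeft K (g a)) with hW
    have hWle : W ≤ H 5 := by
      rintro _ ⟨q, hq, rfl⟩
      exact IsHomogeneous.mul (hg a) hq
    have hsup : V ⊔ W ≤ (LinearMap.ker (ψ a)).map (H 5).subtype := by
      refine sup_le (fun v hv => ⟨⟨v, hV hv⟩, ?_, rfl⟩) fun w hw => ⟨⟨w, hWle hw⟩, ?_, rfl⟩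
      · have h1 : ∀ i, (b i : Module.Dual K (H 5)) ⟨v, hV hv⟩ = 0 := fun i =>
          (Submodule.mem_dualAnnihilator _).1 (b i).2 _ hv
        simp [ψ, h1]
      · obtain ⟨q, hq, rfl⟩ := hw
        exact hgψ a q hq _ rfl
    have h5 : Module.finrank K ↥((LinearMap.ker (ψ a)).map (H 5).subtype) ≤ 5 := by
      rw [(Submodule.equivMapOfInjective _ (H 5).injective_subtype _).finrank_eq.symm]
      have := (ψ a).finrank_range_add_finrank_ker
      rw [LinearMap.range_eq_top.2 (LinearMap.surjective (hψ a)), finrank_top, Module.finrank_self, finrank_H] at this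
      omega
    haveI : FiniteDimensional K W := Submodule.finiteDimensional_of_le hWle
    haveI : FiniteDimensional K ↥((LinearMap.ker (ψ a)).map (H 5).subtype) :=
      Submodule.finiteDimensional_of_le (Submodule.map_subtype_le _ _)
    have h1 := Submodule.finrank_sup_add_finrank_inf_eq V W
    have h2 := Submodule.finrank_mono hsup
    have h3 : Module.finrank K W = 3 := finrank_mulLeft (hg0 a) 2
    omega
  -- distinct functionals give distinct cubics
  have hinj : ∀ a a' : K, ∀ c : K, g a = c • g a' → a = a' := by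
    intro a a' c hc
    by_contra hne
    have hc0 : c ≠ 0 := fun h => hg0 a (by rw [hc, h, zero_smul])
    have hall : ∀ q ∈ H 2, g a * q ∈ V := by
      intro q hq
      let w : H 5 := ⟨g a * q, IsHomogeneous.mul (hg a) hq⟩
      have h1 : ψ a w = 0 := hgψ a q hq w rfl
      have h2 : ψ a' w = 0 := hgψ a' (c • q) (Submodule.smul_mem _ c hq) w (by
        show g a * q = _
        rw [hc, smul_mul_assoc, mul_smul_comm])
      simp only [ψ, LinearMap.add_apply, LinearMap.smul_apply, smul_eq_mul] at h1 h2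
      have hb1 : (b 1 : Module.Dual K (H 5)) w = 0 :=
        (mul_eq_zero.1 (by linear_combination h1 - h2 : (a - a') * (b 1 : Module.Dual K (H 5)) w = 0)).resolve_left
          (sub_ne_zero.2 hne)
      have hb0 : (b 0 : Module.Dual K (H 5)) w = 0 := by rw [hb1, mul_zero, add_zero] at h1; exact h1
      have hall' : ∀ φ ∈ V'.dualAnnihilator, φ w = 0 := by
        intro φ hφ
        have := b.sum_repr ⟨φ, hφ⟩
        rw [Fin.sum_univ_two] at this
        have h' := congrArg (fun x : V'.dualAnnihilator => (x : Module.Dual K (H 5)) w) this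
        simp only [Submodule.coe_add, Submodule.coe_smul, LinearMap.add_apply, LinearMap.smul_apply, hb0, hb1,
          smul_zero, add_zero] at h'
        exact h'.symm
      exact (show w ∈ V' from (Subspace.forall_mem_dualAnnihilator_apply_eq_zero_iff V' w).1 hall')
    -- a quadratic factor of the cubic
    obtain ⟨e, he, he0, l, hl, hfac⟩ : ∃ e ∈ H 2, e ≠ 0 ∧ ∃ l ∈ H 1, g a = e * l := by
      exact exists_factor (hg a) (hg0 a)
    have hWV : (H 2).map (LinearMap.mulLeft K (g a)) ≤ V := by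
      rintro _ ⟨q, hq, rfl⟩
      exact hall q hq
    set U := (H 3).map (LinearMap.mulLeft K e) with hU
    have hUle : U ≤ H 5 := by
      rintro _ ⟨q, hq, rfl⟩
      exact IsHomogeneous.mul he hq
    have hWU : (H 2).map (LinearMap.mulLeft K (g a)) ≤ U := by
      rintro _ ⟨q, hq, rfl⟩
      exact ⟨l * q, IsHomogeneous.mul hl hq, by simp [hfac, mul_assoc]⟩
    have htop : H 5 ≤ V ⊔ U := by
      intro G hG
      obtain ⟨v, hv, h, hh, rfl⟩ := hsep e he he0 G hG
      exact Submodule.add_mem_sup hv ⟨h, hh, rfl⟩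
    haveI : FiniteDimensional K U := Submodule.finiteDimensional_of_le hUle
    haveI : FiniteDimensional K ↥(V ⊔ U) := Submodule.finiteDimensional_sup V U
    have h1 := Submodule.finrank_sup_add_finrank_inf_eq V U
    have h2 := Submodule.finrank_mono (le_inf hWV hWU)
    have h3 := Submodule.finrank_mono htop
    rw [finrank_H] at h3
    rw [finrank_mulLeft (hg0 a)] at h2
    rw [finrank_mulLeft he0, hdim] at h1
    omega
  let bad : Set K := ⋃ g' ∈ F, {a | ∃ c : K, g a = c • g'}
  have hbad : bad.Finite := F.finite_toSet.biUnion fun g' _ => Set.Subsingleton.finite (by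
    rintro a ⟨c, hc⟩ a' ⟨c', hc'⟩
    have hc'0 : c' ≠ 0 := fun h => hg0 a' (by rw [hc', h, zero_smul])
    exact hinj a a' (c / c') (by rw [hc, hc', smul_smul, div_mul_cancel₀ _ hc'0]))
  obtain ⟨a, ha⟩ := hbad.exists_notMem
  exact ⟨g a, hg a, hg0 a, hrank a, fun g' hg' c hc => ha (Set.mem_iUnion₂.2 ⟨g', hg', c, hc⟩)⟩

end Groth.Agent.Trisec28
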